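import Groth.Agent.L05.MinModel.P1
import Groth.Agent.L05.PtSeq.DomLocal
import Groth.Agent.L05.ModelProj.Main
import Groth.Agent.L05.RelMinExists.Main
import Groth.Agent.L18.FactorDesc

/-!
# Birational morphisms of integral surfaces
-/

set_option autoImplicit false
set_option linter.style.haveILetI false
set_option backward.isDefEq.respectTransparency false

universe u

open CategoryTheory CategoryTheory.Limits AlgebraicGeometry TopologicalSpace

noncomputable section

namespace Groth.L05.MinDesing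

variable {A B D : Scheme.{u}}

/-- An isomorphism over some nonempty open. -/
def IsBir (f : A ⟶ B) : Prop := ∃ V : B.Opens, (V : Set B).Nonempty ∧ IsIso (f ∣_ V)

theorem isBir_of_iso (e : A ≅ B) [Nonempty B] : IsBir e.hom :=
  ⟨⊤, ⟨Classical.arbitrary B, trivial⟩, inferInstance⟩

theorem genericPoint_mem [IsIntegral B] {V : B.Opens} (h : (V : Set B).Nonempty) : genericPoint B ∈ V :=
  ((genericPoint_spec B).mem_open_set_iff V.2).2 (by simpa using h)

theorem isIso_restrict_le (f : A ⟶ B) {U V : B.Opens} (h : U ≤ V) [IsIso (f ∣_ V)] : IsIso (f ∣_ U) :=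
  Groth.L13.Contraction.isIso_restrict_mono f h

/-- Composites of birational morphisms. -/
theorem isBir_comp [IsIntegral B] [IsIntegral D] (f : A ⟶ B) (g : B ⟶ D) [IsProper g] (hf : IsBir f)
    (hg : IsBir g) : IsBir (f ≫ g) := by
  obtain ⟨V, hV, hfV⟩ := hf
  obtain ⟨W, hW, hgW⟩ := hg
  haveI := hfV; haveI := hgW
  let T : Set D := g '' (V : Set B)ᶜ
  have hT : IsClosed T := g.isClosedMap _ V.2.isClosed_compl
  let U : D.Opens := W ⊓ ⟨Tᶜ, hT.isOpen_compl⟩
  haveI : IsIso (g ∣_ U) := isIso_restrict_le g inf_le_left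
  haveI : IsIso (f ∣_ (g ⁻¹ᵁ U)) := isIso_restrict_le f fun b hb => by
    by_contra hbV
    exact hb.2 ⟨b, hbV, rfl⟩
  refine ⟨U, ⟨genericPoint D, genericPoint_mem hW, ?_⟩, by rw [morphismRestrict_comp]; infer_instance⟩
  rintro ⟨b, hb, hbD⟩
  obtain ⟨e, -⟩ := Groth.L05.PtSeq.ffMap_bijective g W hW
  have : b = genericPoint B := (Groth.L05.RelMinExists.eq_of_isIso_restrict' g W
    (show g (genericPoint B) ∈ W by rw [e]; exact genericPoint_mem hW) (e.trans hbD.symm)).symm
  exact hb (this ▸ genericPoint_mem hV)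

/-- The left factor of a birational composite. -/
theorem isBir_cancel [IsIntegral B] [IsIntegral D] (f : A ⟶ B) (g : B ⟶ D) (hfg : IsBir (f ≫ g))
    (hg : IsBir g) : IsBir f := by
  obtain ⟨V, hV, hfgV⟩ := hfg
  obtain ⟨W, hW, hgW⟩ := hg
  haveI := hfgV; haveI := hgW
  let U : D.Opens := V ⊓ W
  haveI : IsIso (g ∣_ U) := isIso_restrict_le g inf_le_right
  haveI hU : IsIso ((f ≫ g) ∣_ U) := isIso_restrict_le (f ≫ g) inf_le_left
  rw [morphismRestrict_comp] at hU
  haveI := hU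
  haveI : IsIso (f ∣_ (g ⁻¹ᵁ U)) := IsIso.of_isIso_comp_right (f ∣_ (g ⁻¹ᵁ U)) (g ∣_ U)
  obtain ⟨e, -⟩ := Groth.L05.PtSeq.ffMap_bijective g W hW
  exact ⟨g ⁻¹ᵁ U, ⟨genericPoint B, by
    show g (genericPoint B) ∈ U
    rw [e]; exact ⟨genericPoint_mem hV, genericPoint_mem hW⟩⟩, inferInstance⟩

/-- The right factor of a birational composite, when the left one is an isomorphism off a point. -/
theorem isBir_right [IsIntegral B] [IsIntegral D] (f : A ⟶ B) (g : B ⟶ D) (hfg : IsBir (f ≫ g))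
    {z : B} (hz : IsClosed ({z} : Set B)) [IsIso (f ∣_ (⟨{z}ᶜ, hz.isOpen_compl⟩ : B.Opens))]
    (hgz : IsClosed ({g z} : Set D)) (hgen : genericPoint D ≠ g z) : IsBir g := by
  obtain ⟨V, hV, hfgV⟩ := hfg
  haveI := hfgV
  let U : D.Opens := V ⊓ ⟨{g z}ᶜ, hgz.isOpen_compl⟩
  haveI hU : IsIso ((f ≫ g) ∣_ U) := isIso_restrict_le (f ≫ g) inf_le_left
  haveI : IsIso (f ∣_ (g ⁻¹ᵁ U)) :=
    isIso_restrict_le f (V := (⟨{z}ᶜ, hz.isOpen_compl⟩ : B.Opens)) fun b hb e => hb.2 (congrArg g e)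
  rw [morphismRestrict_comp] at hU
  haveI := hU
  exact ⟨U, ⟨genericPoint D, genericPoint_mem hV, hgen⟩, IsIso.of_isIso_comp_left (f ∣_ (g ⁻¹ᵁ U)) (g ∣_ U)⟩

/-- Sequences of contractions are birational. -/
theorem isBir_seq {Z X : Scheme.{u}} {r : Z ⟶ X} (hr : Models.IsContractionSeq r) :
    Groth.L05.PtSeq.IsRegSurf X → IsBir r := by
  induction hr with
  | iso e => intro h; haveI := h.integral; exact isBir_of_iso e
  | @step Z Z₁ X E ι b r hι hE hb hr ih =>
    intro h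
    have h₁ := Groth.L05.MinModel.seq_isRegSurf hr h
    haveI := h.integral; haveI := h₁.integral; haveI := h.noeth
    haveI := Groth.L05.PtSeq.seq_isProper hr
    obtain ⟨hN, y, hy, hbl⟩ := Groth.L05.PtSeq.isPtBlow_of_contraction hb
    haveI := hN
    haveI := hbl.isIso_off
    refine isBir_comp b r ⟨⟨{y}ᶜ, hy.isOpen_compl⟩, ⟨genericPoint Z₁, ?_⟩, inferInstance⟩ (ih h)
    exact Groth.L05.PtSeq.genericPoint_ne_of_dim (hbl.2.1.trans Nat.cast_ofNat)

/-- A morphism killing the fibre over a point factors through a morphism which is an isomorphism off it. -/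
theorem existsUnique_factor [IsIntegral A] [IsIntegral B] [IsLocallyNoetherian B] (f : A ⟶ B) [IsProper f]
    (hN : ∀ b : B, IsIntegrallyClosed (B.presheaf.stalk b)) {z : B} (hz : IsClosed ({z} : Set B))
    (hgen : genericPoint B ≠ z) [IsIso (f ∣_ (⟨{z}ᶜ, hz.isOpen_compl⟩ : B.Opens))] (g : A ⟶ D)
    (hg : ∀ a a', f a = z → f a' = z → g a = g a') : ∃! u : B ⟶ D, f ≫ u = g := by
  obtain ⟨e, he⟩ := Groth.L05.PtSeq.ffMap_bijective f (⟨{z}ᶜ, hz.isOpen_compl⟩ : B.Opens) ⟨_, hgen⟩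
  have hO := Groth.L16.Connected.isIso_app_of_birational f e hN he
  haveI : Surjective f := ⟨fun b =>
    (genericPoint_specializes b).mem_closed f.isClosedMap.isClosed_range ⟨_, e⟩⟩
  refine Groth.L18.FactorDesc.existsUnique_desc f f.isClosedMap
    (fun U => (ConcreteCategory.isIso_iff_bijective _).1 (hO U)) g fun a a' h => ?_
  by_cases ha : f a = z
  · exact hg a a' ha (h ▸ ha)
  · rw [Groth.L05.RelMinExists.eq_of_isIso_restrict' f (⟨{z}ᶜ, hz.isOpen_compl⟩ : B.Opens) ha h]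

end Groth.L05.MinDesing
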