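import Groth.Agent.L05.MinDesing.Basic
import Groth.Agent.L05.EulerDiv.Divis
import Groth.Agent.L05.ArFamily.Main
import Groth.Agent.L05.ExcCurve.Main

/-!
# Exceptional curves in the fibres of a birational morphism of surfaces over a discrete valuation ring
-/

set_option autoImplicit false
set_option linter.style.haveILetI false
set_option backward.isDefEq.respectTransparency false

universe u

open CategoryTheory CategoryTheory.Limits AlgebraicGeometry TopologicalSpace

noncomputable section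

namespace Groth.L05.MinDesing

variable {R : Type u} [CommRing R] [IsDomain R] [IsDiscreteValuationRing R]

/-- A regular surface birational and proper over a flat projective surface is an arithmetic surface. -/
theorem isArithSurface_of_birational {Y : Over (Spec (CommRingCat.of R))} [IsIntegral Y.left] [Flat Y.hom]
    [IsProper Y.hom] (hdimY : topologicalKrullDim Y.left = 2) {Z : Scheme.{u}} (hZ : Groth.L05.PtSeq.IsRegSurf Z)
    (q : Z ⟶ Y.left) [IsProper q] (hq : IsBir q) : ArSurf.IsArithSurface R (Over.mk (q ≫ Y.hom)) := by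
  haveI := hZ.integral; haveI := hZ.noeth
  obtain ⟨V, hV, hqV⟩ := hq
  haveI := hqV
  obtain ⟨e, -⟩ := Groth.L05.PtSeq.ffMap_bijective q V hV
  let j := (q ⁻¹ᵁ V).ι
  haveI : Nonempty ((q ⁻¹ᵁ V : Z.Opens) : Scheme.{u}) :=
    ⟨⟨genericPoint Z, show q (genericPoint Z) ∈ V by rw [e]; exact genericPoint_mem hV⟩⟩
  haveI : IsDominant j := ⟨j.isOpenEmbedding.isOpen_range.dense (Set.range_nonempty _)⟩
  haveI : IsSchemeTheoreticallyDominant j := IsSchemeTheoreticallyDominant.of_isDominant j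
  haveI : Flat (j ≫ q ≫ Y.hom) := by
    show Flat ((q ⁻¹ᵁ V).ι ≫ q ≫ Y.hom)
    rw [← morphismRestrict_ι_assoc]
    infer_instance
  haveI : QuasiCompact j := inferInstance
  have hf : Flat (q ≫ Y.hom) := Groth.L02.STD.flat_of_dominant R j (q ≫ Y.hom)
  have hd : topologicalKrullDim Z = 2 := by
    refine le_antisymm hZ.dim ?_
    rw [← hdimY]
    exact Groth.L05.RelMinExists.topologicalKrullDim_le_of_proper_surjective q fun y =>
      (genericPoint_specializes y).mem_closed q.isClosedMap.isClosed_range ⟨_, e⟩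
  haveI : IsIntegral (Over.mk (q ≫ Y.hom)).left := hZ.integral
  haveI : Flat (Over.mk (q ≫ Y.hom)).hom := hf
  haveI : IsProper (Over.mk (q ≫ Y.hom)).hom := inferInstanceAs (IsProper (q ≫ Y.hom))
  exact ⟨hZ.reg, hZ.integral, hd, hf, Groth.L05.ModelProj.isProjectiveOver (X := Over.mk (q ≫ Y.hom)) hZ.reg hd⟩

/-- The self-intersection of an exceptional curve is minus the dimension of its constants. -/
theorem inter_self_exc {X : Over (Spec (CommRingCat.of R))} [IsProper X.hom] [IsLocallyNoetherian X.left]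
    [IsIntegral X.left] (Γ : ArSurf.VertComp R X) (hexc : Models.IsExcCurve Γ.ι) (L : X.left.Modules)
    (hL : ClSub.IsInverseOf L (ClSub.idealMod Γ.ι.ker)) :
    ArSurf.inter R X L Γ = -(Models.wdeg R X Γ : ℤ) := by
  obtain ⟨hE, k, _, e, ⟨j⟩⟩ := hexc
  haveI := Groth.L05.InterPair.isProper_curve Γ
  have hN : PicF.IsInvertible ((Scheme.Modules.pullback Γ.ι).obj (ClSub.idealMod Γ.ι.ker)) :=
    Groth.L18.Ample.isInvertible_pullback _ ((Groth.Agent.L19.IdealInvertible.isEffCartier_iff _).2 hE)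
  obtain ⟨-, hdeg⟩ := Groth.L05.ExcCurve.invariants_of_projLine (IsLocalRing.ResidueField R) Γ.dim_eq hN e
    ((Scheme.Modules.pullbackComp e.hom Γ.ι).app _ ≪≫ j)
  have hneg := Groth.L05.InterPair.inter_eq_neg_negDeg Γ hE hL
  rw [Groth.L05.InterPair.negDeg, ArSurf.inter, ArSurf.inter, hdeg] at hneg
  exact hneg

/-- Two meeting exceptional curves have a sum of nonnegative square. -/
theorem sum_nonneg_of_meet {X : Over (Spec (CommRingCat.of R))} (hX : ArSurf.IsArithSurface R X)
    (Γ : Fin 2 → ArSurf.VertComp R X)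
    (hΓ : Function.Injective fun i => Set.range ((Γ i).ι.base : (Γ i).curve.left → X.left))
    (hexc : ∀ i, Models.IsExcCurve (Γ i).ι) (L : Fin 2 → X.left.Modules)
    (hL : ∀ j, ClSub.IsInverseOf (L j) (ClSub.idealMod (Γ j).ι.ker))
    (hmeet : ¬ Disjoint (Set.range ((Γ 0).ι.base : (Γ 0).curve.left → X.left))
      (Set.range ((Γ 1).ι.base : (Γ 1).curve.left → X.left))) :
    0 ≤ (Finset.univ : Finset (Fin 2 × Fin 2)).sum
      (fun p => (1 : ℤ) * 1 * ArSurf.inter R X (L p.2) (Γ p.1)) := by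
  obtain ⟨hreg, hint, hdim, hfl, hproj⟩ := hX
  haveI := hint; haveI := hfl
  haveI : IsProper X.hom := Groth.L05.RelMinExists.isProper_of_projective hproj
  haveI : IsNoetherianRing (CommRingCat.of R) := inferInstanceAs (IsNoetherianRing R)
  haveI : IsLocallyNoetherian X.left := LocallyOfFiniteType.isLocallyNoetherian X.hom
  have h01 : (0 : Fin 2) ≠ 1 := by decide
  obtain ⟨hnn, hz⟩ := Groth.L05.ArFamily.inter_nonneg_and_disjoint (X := X) hreg hdim hΓ hL h01
  have hsym : ArSurf.inter R X (L 1) (Γ 0) = ArSurf.inter R X (L 0) (Γ 1) :=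
    Groth.L05.ArFamily.inter_symm_of_ne (X := X) hreg hdim (fun h => h01 (hΓ h)) (hL 0) (hL 1)
  have hpos : 0 < ArSurf.inter R X (L 1) (Γ 0) := lt_of_le_of_ne hnn fun h => hmeet (hz h.symm)
  have hw0 : (Models.wdeg R X (Γ 0) : ℤ) ≤ ArSurf.inter R X (L 1) (Γ 0) :=
    Int.le_of_dvd hpos (Groth.L05.EulerDiv.wdeg_dvd_inter (Γ 0) (L 1))
  have hw1 : (Models.wdeg R X (Γ 1) : ℤ) ≤ ArSurf.inter R X (L 0) (Γ 1) :=
    Int.le_of_dvd (hsym ▸ hpos) (Groth.L05.EulerDiv.wdeg_dvd_inter (Γ 1) (L 0))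
  rw [Fintype.sum_prod_type, Fin.sum_univ_two, Fin.sum_univ_two, Fin.sum_univ_two,
    inter_self_exc (Γ 0) (hexc 0) (L 0) (hL 0), inter_self_exc (Γ 1) (hexc 1) (L 1) (hL 1)]
  linarith

end Groth.L05.MinDesing
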