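import Groth.Agent.L05.MinDesing.Main
import Groth.Agent.L05.MinExist.Data
import Groth.Agent.S3254

/-!
# Existence of a surface without contracted exceptional curves
-/

set_option autoImplicit false
set_option linter.style.haveILetI false
set_option backward.isDefEq.respectTransparency false

universe u

open CategoryTheory CategoryTheory.Limits AlgebraicGeometry TopologicalSpace

noncomputable section

namespace Groth.L05.MinDesing

variable {R : Type u} [CommRing R] [IsDomain R] [IsDiscreteValuationRing R]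
  {Y : Over (Spec (CommRingCat.of R))} [IsIntegral Y.left] [IsProper Y.hom]

/-- The generic points of the curves contracted by `g`. -/
def contractedPts (X : Over (Spec (CommRingCat.of R))) (g : X ⟶ Y) : Set X.left :=
  {x | ringKrullDim (X.left.presheaf.stalk x) = 1 ∧ x ∈ Models.specialFibreSet R X ∧
    IsClosed ({g.left x} : Set Y.left)}

omit [IsIntegral Y.left] [IsProper Y.hom] in
theorem finite_contractedPts {X : Over (Spec (CommRingCat.of R))} (hX : ArSurf.IsArithSurface R X) (g : X ⟶ Y) :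
    (contractedPts X g).Finite := by
  obtain ⟨hreg, hint, hdim, hfl, hproj⟩ := hX
  haveI := hint; haveI := hfl
  haveI : IsProper X.hom := Groth.L05.RelMinExists.isProper_of_projective hproj
  haveI : IsNoetherianRing (CommRingCat.of R) := inferInstanceAs (IsNoetherianRing R)
  haveI : IsLocallyNoetherian X.left := LocallyOfFiniteType.isLocallyNoetherian X.hom
  obtain ⟨n, Γ, hΓ, -⟩ := Groth.L05.GeomMult.exists_componentList (X := X) hdim
  refine (Set.finite_range fun i => Models.genPtOf R X (Γ i)).subset fun x ⟨hx1, hxF, _⟩ => ?_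
  obtain ⟨i, a, ha⟩ := Groth.L05.FibreDecomp.exists_component hΓ hxF
  refine ⟨i, by_contra fun hne => ?_⟩
  have h := Groth.L03.BlowPt.Factor.dim_add_one_le
    (show Models.genPtOf R X (Γ i) ⤳ x from ha ▸ (genericPoint_specializes a).map (Γ i).ι.continuous) hne
  rw [Groth.L05.FibreDecomp.dim_genPtOf hreg hΓ i, hx1] at h
  exact absurd h (by decide)

theorem exists_no_contracted (hdimY : topologicalKrullDim Y.left = 2) :
    ∀ (n : ℕ) (X : Over (Spec (CommRingCat.of R))), ArSurf.IsArithSurface R X → ∀ (g : X ⟶ Y), IsBir g.left →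
      (contractedPts X g).ncard = n →
      ∃ (Z : Over (Spec (CommRingCat.of R))) (g : Z ⟶ Y), ArSurf.IsArithSurface R Z ∧ IsBir g.left ∧
        ∀ (E : Scheme.{u}) (ι : E ⟶ Z.left) [IsClosedImmersion ι], Models.IsExcCurve ι →
          ¬ ∃ y : Y.left, Set.range (ι ≫ g.left) = {y} := by
  intro n
  induction n using Nat.strong_induction_on with
  | _ n ih =>
  intro X hX g hg hn
  by_cases hall : ∀ (E : Scheme.{u}) (ι : E ⟶ X.left) [IsClosedImmersion ι], Models.IsExcCurve ι →
      ¬ ∃ y : Y.left, Set.range (ι ≫ g.left) = {y}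
  · exact ⟨X, g, hX, hg, hall⟩
  push Not at hall
  obtain ⟨E, ι, hι, hE, y, hy⟩ := hall
  haveI := hι
  obtain ⟨hreg, hint, hdim, hfl, hproj⟩ := id hX
  haveI := hint; haveI := hfl
  haveI : IsProper X.hom := Groth.L05.RelMinExists.isProper_of_projective hproj
  haveI : IsNoetherianRing (CommRingCat.of R) := inferInstanceAs (IsNoetherianRing R)
  haveI : IsLocallyNoetherian X.left := LocallyOfFiniteType.isLocallyNoetherian X.hom
  haveI : IsProper (g.left ≫ Y.hom) := by rw [Over.w g]; infer_instance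
  haveI : IsProper g.left := IsProper.of_comp g.left Y.hom
  obtain ⟨hyc, hv⟩ := contracted_mem_closedFibre ι g.left hy
  rw [Over.w g] at hv
  obtain ⟨Γ, hΓ, hΓe⟩ := Groth.L05.MinModel.exists_vertComp X.hom ι hE hv
  change ArSurf.VertComp R X at Γ
  obtain ⟨L, -, ⟨hL⟩⟩ := Groth.L08.Cube.exists_inverse
    ((Groth.Agent.L19.IdealInvertible.isEffCartier_iff _).2 hΓe.1)
  have hL' : ClSub.IsInverseOf L (ClSub.idealMod Γ.ι.ker) := ⟨Groth.L00.Tensor.tensorComm _ _ ≪≫ hL⟩
  obtain ⟨k', _, _, _, e, he, hself⟩ := Groth.L05.MinExist.exists_excData Γ hΓe L hL'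
  obtain ⟨X₂, f, z, hz, hX₂, hrange, hpre, hiso⟩ := Groth.Agent.S3254.result R X hX Γ k' e he L hL' hself
  obtain ⟨hreg₂, hint₂, hdim₂, hfl₂, hproj₂⟩ := id hX₂
  haveI := hint₂; haveI := hfl₂; haveI := hiso
  haveI : IsProper X₂.hom := Groth.L05.RelMinExists.isProper_of_projective hproj₂
  haveI : IsLocallyNoetherian X₂.left := LocallyOfFiniteType.isLocallyNoetherian X₂.hom
  haveI : IsProper (f.left ≫ X₂.hom) := by rw [Over.w f]; infer_instance
  haveI : IsProper f.left := IsProper.of_comp f.left X₂.hom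
  have hzs := Groth.L05.MinModel.closedPoint_of_closed X₂.hom hz
  have hzd : ringKrullDim (X₂.left.presheaf.stalk z) = (2 : ℕ) :=
    Groth.L05.PointBlowArith.dim_stalk_eq_two X₂ hdim₂ z hz hzs
  have hzgen : genericPoint X₂.left ≠ z := Groth.L05.PtSeq.genericPoint_ne_of_dim (hzd.trans Nat.cast_ofNat)
  have hmem : ∀ a, f.left a = z → ∃ c, Γ.ι c = a := fun a ha => by
    by_contra hna
    have h1 : a ∈ (Set.range Γ.ι)ᶜ := hna
    rw [← hpre] at h1
    exact h1 ha
  have hΓy : ∀ c, g.left (Γ.ι c) = y := fun c => by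
    obtain ⟨a, ha⟩ := hΓ.subset ⟨c, rfl⟩
    exact (congrArg g.left ha).symm.trans (hy.subset ⟨a, rfl⟩)
  have hconst : ∀ a a', f.left a = z → f.left a' = z → g.left a = g.left a' := fun a a' ha ha' => by
    obtain ⟨c, rfl⟩ := hmem a ha
    obtain ⟨c', rfl⟩ := hmem a' ha'
    rw [hΓy, hΓy]
  have hN : ∀ b : X₂.left, IsIntegrallyClosed (X₂.left.presheaf.stalk b) := fun b => by
    haveI := hreg₂ b
    exact Groth.L03.RegularNormal.isIntegrallyClosed _
  obtain ⟨v, hv', -⟩ := existsUnique_factor f.left hN hz hzgen g.left hconst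
  change f.left ≫ v = g.left at hv'
  obtain ⟨w, -, hw⟩ := existsUnique_factor f.left hN hz hzgen X.hom fun a a' ha ha' => by
    rw [← Over.w g, Scheme.Hom.comp_apply, Scheme.Hom.comp_apply, hconst a a' ha ha']
  have hvw : v ≫ Y.hom = X₂.hom :=
    (hw (v ≫ Y.hom) (by show f.left ≫ v ≫ Y.hom = X.hom; rw [← Category.assoc, hv', Over.w g])).trans
      (hw X₂.hom (Over.w f)).symm
  let g₂ : X₂ ⟶ Y := Over.homMk v hvw
  have hvz : v z = y := by
    obtain ⟨c, hc⟩ : z ∈ Set.range (Γ.ι ≫ f.left) := hrange ▸ rfl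
    rw [← hc, ← Scheme.Hom.comp_apply, Category.assoc, hv']
    exact hΓy c
  have hgen : genericPoint Y.left ≠ v z := fun h => by
    rw [hvz] at h
    haveI : Subsingleton Y.left := ⟨fun a b => by
      have key : ∀ a : Y.left, a = y := fun a =>
        (h ▸ genericPoint_specializes a : y ⤳ a).mem_closed hyc rfl
      rw [key a, key b]⟩
    haveI : DiscreteTopology Y.left := Subsingleton.discreteTopology
    have h0 := topologicalKrullDim_zero_of_discreteTopology Y.left
    rw [hdimY] at h0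
    exact absurd h0 (by decide)
  have hg₂ : IsBir g₂.left := isBir_right f.left v (hv' ▸ hg) hz (hvz ▸ hyc) hgen
  refine ih _ (hn ▸ ?_) X₂ hX₂ g₂ hg₂ rfl
  let ξ : X.left := Models.genPtOf R X Γ
  have hξ : ξ ∈ contractedPts X g := by
    refine ⟨Groth.L05.InterPair.dim_genPtOf_of_surface hreg hdim Γ, ?_, ?_⟩
    · show (Γ.ι ≫ X.hom) (genericPoint Γ.curve.left) = IsLocalRing.closedPoint R
      rw [Γ.w]
      exact Groth.L05.GeomMult.range_pt.subset ⟨_, rfl⟩
    · show IsClosed ({g.left (Γ.ι (genericPoint Γ.curve.left))} : Set Y.left)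
      rw [hΓy]; exact hyc
  have hsub : contractedPts X₂ g₂ ⊆ f.left '' (contractedPts X g \ {ξ}) := by
    intro b ⟨hb1, hbF, hbc⟩
    have hbz : b ≠ z := fun h => by
      rw [h, hzd] at hb1
      exact absurd hb1 (by decide)
    obtain ⟨a, ha⟩ := (f.left ∣_ (⟨{z}ᶜ, hz.isOpen_compl⟩ : X₂.left.Opens)).homeomorph.surjective ⟨b, hbz⟩
    have hab : f.left a.1 = b := by
      rw [← morphismRestrict_base_coe]; exact congrArg Subtype.val ha
    haveI := Groth.L05.PtSeq.isIso_stalkMap_of_restrict f.left (⟨{z}ᶜ, hz.isOpen_compl⟩ : X₂.left.Opens)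
      (show f.left a.1 ∈ _ from hab ▸ hbz)
    refine ⟨a.1, ⟨⟨?_, ?_, ?_⟩, fun h => ?_⟩, hab⟩
    · rw [← hab] at hb1
      rw [← hb1]
      exact (ringKrullDim_eq_of_ringEquiv (asIso (f.left.stalkMap a.1)).commRingCatIsoToRingEquiv).symm
    · show X.hom a.1 = _
      rw [← Over.w f, Scheme.Hom.comp_apply, hab]
      exact hbF
    · rw [← hv', Scheme.Hom.comp_apply, hab]
      exact hbc
    · refine hbz (hab.symm.trans ?_)
      rw [show a.1 = ξ from h]
      exact hrange.subset ⟨_, rfl⟩
  have hfin := finite_contractedPts hX g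
  calc (contractedPts X₂ g₂).ncard ≤ (f.left '' (contractedPts X g \ {ξ})).ncard :=
        Set.ncard_le_ncard hsub ((hfin.subset Set.sdiff_subset).image _)
    _ ≤ (contractedPts X g \ {ξ}).ncard := Set.ncard_image_le (hfin.subset Set.sdiff_subset)
    _ < (contractedPts X g).ncard := Set.ncard_sdiff_singleton_lt_of_mem hξ hfin

end Groth.L05.MinDesing
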