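import Groth.Agent.L05.MinDesing.Arith

/-!
# The minimal desingularization
-/

set_option autoImplicit false
set_option linter.style.haveILetI false
set_option backward.isDefEq.respectTransparency false

universe u

open CategoryTheory CategoryTheory.Limits AlgebraicGeometry TopologicalSpace

noncomputable section

namespace Groth.L05.MinDesing

open Groth.L05.PtSeq (IsRegSurf IsPtBlow)

variable {R : Type u} [CommRing R] [IsDomain R] [IsDiscreteValuationRing R]

/-- Two curves contracted to one point by a birational morphism have a sum of negative square. -/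
def PairNeg (Y : Over (Spec (CommRingCat.of R))) : Prop :=
  ∀ (X : Over (Spec (CommRingCat.of R))), ArSurf.IsArithSurface R X → ∀ (f : X ⟶ Y), IsBir f.left →
    ∀ (y : Y.left), IsClosed ({y} : Set Y.left) → ∀ (Γ : Fin 2 → ArSurf.VertComp R X),
      Function.Injective (fun i => Set.range ((Γ i).ι.base : (Γ i).curve.left → X.left)) →
      (∀ i, Set.range (((Γ i).ι ≫ f.left).base : (Γ i).curve.left → Y.left) = {y}) →
      ∀ L : Fin 2 → X.left.Modules, (∀ j, ClSub.IsInverseOf (L j) (ClSub.idealMod (Γ j).ι.ker)) →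
        (Finset.univ : Finset (Fin 2 × Fin 2)).sum
          (fun p => (1 : ℤ) * 1 * ArSurf.inter R X (L p.2) (Γ p.1)) < 0

variable {Y : Over (Spec (CommRingCat.of R))} [IsIntegral Y.left] [Flat Y.hom] [IsProper Y.hom]

omit [IsIntegral Y.left] [Flat Y.hom] in
theorem contracted_mem_closedFibre {E X : Scheme.{u}} (ι : E ⟶ X) (q : X ⟶ Y.left) {y : Y.left}
    [IsProper (ι ≫ q)] (h : Set.range (ι ≫ q) = {y}) :
    IsClosed ({y} : Set Y.left) ∧ Set.range ι ⊆ (q ≫ Y.hom) ⁻¹' {IsLocalRing.closedPoint R} := by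
  have hy : IsClosed ({y} : Set Y.left) := h ▸ (ι ≫ q).isClosedMap.isClosed_range
  refine ⟨hy, ?_⟩
  rintro _ ⟨a, rfl⟩
  have : (ι ≫ q) a = y := h.subset ⟨a, rfl⟩
  show Y.hom ((ι ≫ q) a) = _
  rw [this]
  exact Groth.L05.MinModel.closedPoint_of_closed Y.hom hy

/-- Exceptional curves over a point of `Y` die in a surface without such curves. -/
theorem exc_contracted_over (hdimY : topologicalKrullDim Y.left = 2) (hneg : PairNeg Y)
    {Z X : Scheme.{u}} {h : Z ⟶ X} (hh : Models.IsContractionSeq h) :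
    ∀ (g : X ⟶ Y.left) [IsProper g], IsRegSurf X → IsBir g →
      (∀ (E : Scheme.{u}) (ι : E ⟶ X) [IsClosedImmersion ι], Models.IsExcCurve ι →
        ¬ ∃ y : Y.left, Set.range (ι ≫ g) = {y}) →
      ∀ {E : Scheme.{u}} (ι : E ⟶ Z) [IsClosedImmersion ι], Models.IsExcCurve ι →
        ∀ y : Y.left, Set.range (ι ≫ h ≫ g) = {y} → ∃ x, Set.range (ι ≫ h) = {x} := by
  induction hh with
  | iso e =>
    intro g _ hS hg hexc E ι _ hE y hy
    have hS' := Groth.L05.MinModel.seq_isRegSurf (Models.IsContractionSeq.iso e) hS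
    haveI := hS.integral; haveI := hS.noeth; haveI := hS'.integral; haveI := hS'.noeth
    haveI : IsIso (e.hom ∣_ ⊤) := inferInstance
    obtain ⟨hci, hE'⟩ := Groth.L05.MinModel.exists_push e.hom ⊤ ι hE fun _ => trivial
    haveI := hci
    exact absurd ⟨y, by rw [Category.assoc]; exact hy⟩ (hexc _ (ι ≫ e.hom) hE')
  | @step Z Z₁ X E₁ ι₁ b r hι₁ hE₁ hb hr ih =>
    intro g _ hS hg hexc E ι _ hE y hy
    have hS₁ := Groth.L05.MinModel.seq_isRegSurf hr hS
    have hseq := Models.IsContractionSeq.step ι₁ b r hι₁ hE₁ hb hr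
    have hSZ := Groth.L05.MinModel.seq_isRegSurf hseq hS
    haveI := hS.integral; haveI := hS.noeth; haveI := hS₁.integral; haveI := hS₁.noeth
    haveI := hSZ.integral; haveI := hSZ.noeth
    haveI := hι₁
    haveI := Groth.L05.PtSeq.seq_isProper hseq
    obtain ⟨-, hbp, z, hz, hr₁, hreg, hdim, hbl⟩ := id hb
    haveI := hbp
    haveI : Nonempty E := haveI := (Groth.L05.MinModel.excCurve_integral hE).1; inferInstance
    haveI : Nonempty E₁ := haveI := (Groth.L05.MinModel.excCurve_integral hE₁).1; inferInstance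
    have hE₁z : ∀ a, b (ι₁ a) = z := fun a => by
      have h : (ι₁ ≫ b) a ∈ ({z} : Set Z₁) := hr₁ ▸ ⟨a, rfl⟩
      exact h
    by_cases heq : Set.range ι = Set.range ι₁
    · refine ⟨r z, Set.Nonempty.subset_singleton_iff (Set.range_nonempty _) |>.1 ?_⟩
      rintro _ ⟨a, rfl⟩
      obtain ⟨a', ha'⟩ := heq.subset ⟨a, rfl⟩
      show r (b (ι a)) = r z
      rw [← ha', hE₁z]
    by_cases hdisj : Disjoint (Set.range ι) (Set.range ι₁)
    swap
    · exfalso
      let q := (b ≫ r) ≫ g
      have hq : IsBir q := isBir_comp (b ≫ r) g (isBir_seq hseq hS) hg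
      have hA := isArithSurface_of_birational hdimY hSZ q hq
      obtain ⟨hyc, hv⟩ := contracted_mem_closedFibre ι q hy
      have hy₁ : Set.range (ι₁ ≫ q) = {y} := by
        refine Set.Nonempty.subset_singleton_iff (Set.range_nonempty _) |>.1 ?_
        rintro _ ⟨a, rfl⟩
        obtain ⟨c, ⟨a', ha'⟩, c₁, hc₁⟩ := Set.not_disjoint_iff.1 hdisj
        have h1 : q c = y := by
          rw [← ha']
          exact hy.subset ⟨a', rfl⟩
        show g (r (b (ι₁ a))) = y
        rw [hE₁z, ← h1, ← hc₁]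
        show g (r z) = g (r (b (ι₁ c₁)))
        rw [hE₁z]
      obtain ⟨-, hv₁⟩ := contracted_mem_closedFibre ι₁ q hy₁
      obtain ⟨Δ, hΔ, heΔ⟩ := Groth.L05.MinModel.exists_vertComp (q ≫ Y.hom) ι hE hv
      obtain ⟨Δ₁, hΔ₁, heΔ₁⟩ := Groth.L05.MinModel.exists_vertComp (q ≫ Y.hom) ι₁ hE₁ hv₁
      let Γ : Fin 2 → ArSurf.VertComp R (Over.mk (q ≫ Y.hom)) := ![Δ, Δ₁]
      haveI : IsLocallyNoetherian (Over.mk (q ≫ Y.hom)).left := hSZ.noeth.toIsLocallyNoetherian
      have hexcΓ : ∀ i, Models.IsExcCurve (Γ i).ι := Fin.forall_fin_two.2 ⟨heΔ, heΔ₁⟩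
      choose L hLi hL using fun i => Groth.L08.Cube.exists_inverse
        ((Groth.Agent.L19.IdealInvertible.isEffCartier_iff _).2 (hexcΓ i).1)
      have hL' : ∀ i, ClSub.IsInverseOf (L i) (ClSub.idealMod (Γ i).ι.ker) := fun i =>
        ⟨Groth.L00.Tensor.tensorComm _ _ ≪≫ (hL i).some⟩
      have hinj : Function.Injective fun i => Set.range ((Γ i).ι.base : (Γ i).curve.left → Z) := by
        intro i j hij
        fin_cases i <;> fin_cases j
        · rfl
        · exact absurd (hΔ.symm.trans (hij.trans hΔ₁)) heq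
        · exact absurd (hΔ.symm.trans (hij.symm.trans hΔ₁)) heq
        · rfl
      have hcontr : ∀ i, Set.range ((Γ i).ι ≫ q) = {y} := by
        have key : ∀ {E' : Scheme.{u}} (κ : E' ⟶ Z) (D : ArSurf.VertComp R (Over.mk (q ≫ Y.hom))),
            Set.range (D.ι.base : D.curve.left → Z) = Set.range κ → Set.range (κ ≫ q) = {y} →
              Set.range (D.ι ≫ q) = {y} := fun {E'} κ D h1 h2 => by
          refine Set.Nonempty.subset_singleton_iff (Set.range_nonempty _) |>.1 ?_
          rintro _ ⟨c, rfl⟩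
          obtain ⟨a, ha⟩ := h1.subset ⟨c, rfl⟩
          show q (D.ι c) = y
          rw [← ha]
          exact h2.subset ⟨a, rfl⟩
        exact Fin.forall_fin_two.2 ⟨key ι Δ hΔ hy, key ι₁ Δ₁ hΔ₁ hy₁⟩
      refine absurd (sum_nonneg_of_meet hA Γ hinj hexcΓ L hL' ?_) (not_le.2
        (hneg _ hA (Over.homMk q rfl) hq y hyc Γ hinj hcontr L hL'))
      show ¬ Disjoint (Set.range (Δ.ι.base : Δ.curve.left → Z)) (Set.range (Δ₁.ι.base : Δ₁.curve.left → Z))
      rw [hΔ, hΔ₁]
      exact hdisj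
    let W : Z₁.Opens := ⟨{z}ᶜ, hz.isOpen_compl⟩
    haveI : IsIso (b ∣_ W) := IsPtBlow.isIso_off (hy := hz) ⟨hreg, hdim, hbl⟩
    obtain ⟨hci, hE'⟩ := Groth.L05.MinModel.exists_push b W ι hE fun a hay => Set.disjoint_left.1 hdisj ⟨a, rfl⟩
      (Groth.L13.Contraction.mem_range_of_apply hE₁ b hz hr₁ hreg hdim hbl (ι a) hay)
    haveI := hci
    obtain ⟨x, hx⟩ := ih g hS hg hexc (ι ≫ b) hE' y (by
      simp only [Category.assoc] at hy ⊢
      exact hy)
    exact ⟨x, by rw [← Category.assoc]; exact hx⟩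

/-- A morphism from a blown-up surface to one without contracted exceptional curves descends. -/
theorem exists_descend_over (hdimY : topologicalKrullDim Y.left = 2) (hneg : PairNeg Y)
    {X : Scheme.{u}} (g : X ⟶ Y.left) [IsProper g] (hS : IsRegSurf X) (hg : IsBir g)
    (hexc : ∀ (E : Scheme.{u}) (ι : E ⟶ X) [IsClosedImmersion ι], Models.IsExcCurve ι →
      ¬ ∃ y : Y.left, Set.range (ι ≫ g) = {y})
    {Z X' : Scheme.{u}} {s : Z ⟶ X'} (hs : Models.IsContractionSeq s) :
    ∀ (g' : X' ⟶ Y.left) [IsProper g'], IsRegSurf X' → IsBir g' → ∀ h : Z ⟶ X, h ≫ g = s ≫ g' →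
      ∃ b : X' ⟶ X, b ≫ g = g' := by
  induction hs with
  | iso e =>
    intro g' _ hS' hg' h hh
    exact ⟨e.inv ≫ h, by rw [Category.assoc, hh, e.inv_hom_id_assoc]⟩
  | @step Z Z₁ X' E ι b r hι hE hb hr ih =>
    intro g' _ hS' hg' h hh
    have hseq := Models.IsContractionSeq.step ι b r hι hE hb hr
    have hSZ := Groth.L05.MinModel.seq_isRegSurf hseq hS'
    have hS₁ := Groth.L05.MinModel.seq_isRegSurf hr hS'
    haveI := hS.integral; haveI := hS.noeth; haveI := hS'.integral; haveI := hS'.noeth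
    haveI := hSZ.integral; haveI := hSZ.noeth; haveI := hS₁.integral; haveI := hS₁.noeth
    haveI := Groth.L05.PtSeq.seq_isProper hseq
    haveI := Groth.L05.PtSeq.seq_isProper hr
    haveI : IsProper (h ≫ g) := hh ▸ inferInstance
    haveI : IsProper h := IsProper.of_comp h g
    have hhseq : Models.IsContractionSeq h := Groth.L05.PtSeq.seq_of_birational' hSZ hS h
      (isBir_cancel h g (hh ▸ isBir_comp (b ≫ r) g' (isBir_seq hseq hS') hg') hg)
    haveI := hι
    haveI : Nonempty E := haveI := (Groth.L05.MinModel.excCurve_integral hE).1; inferInstance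
    obtain ⟨-, hbp, z, hz, hrz, -⟩ := id hb
    have hEz : ∀ a, b (ι a) = z := fun a => by
      have h2 : (ι ≫ b) a ∈ ({z} : Set Z₁) := hrz ▸ ⟨a, rfl⟩
      exact h2
    have hrange : Set.range (ι ≫ (b ≫ r) ≫ g') = {g' (r z)} := by
      refine Set.Nonempty.subset_singleton_iff (Set.range_nonempty _) |>.1 ?_
      rintro _ ⟨a, rfl⟩
      show g' (r (b (ι a))) = g' (r z)
      rw [hEz]
    obtain ⟨x, hx⟩ := exc_contracted_over hdimY hneg hhseq g hS hg hexc ι hE (g' (r z))
      (by rw [hh]; exact hrange)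
    obtain ⟨h₁, hh₁, -⟩ := Groth.L13.Contraction.existsUnique_desc hE b hb h x hx
    change b ≫ h₁ = h at hh₁
    obtain ⟨u, -, hu⟩ := Groth.L13.Contraction.existsUnique_desc hE b hb ((b ≫ r) ≫ g') (g' (r z)) hrange
    have h₁g : h₁ ≫ g = r ≫ g' :=
      (hu (h₁ ≫ g) (by show b ≫ h₁ ≫ g = _; rw [reassoc_of% hh₁, hh])).trans
        (hu (r ≫ g') (Category.assoc b r g').symm).symm
    exact ih g' hS' hg' h₁ h₁g

/-- The universal property of a surface without contracted exceptional curves. -/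
theorem existsUnique_over (hdimY : topologicalKrullDim Y.left = 2) (hneg : PairNeg Y)
    {X : Over (Spec (CommRingCat.of R))} (hX : ArSurf.IsArithSurface R X) (g : X ⟶ Y) (hg : IsBir g.left)
    (hexc : ∀ (E : Scheme.{u}) (ι : E ⟶ X.left) [IsClosedImmersion ι], Models.IsExcCurve ι →
      ¬ ∃ y : Y.left, Set.range (ι ≫ g.left) = {y})
    {X' : Over (Spec (CommRingCat.of R))} (hX' : ArSurf.IsArithSurface R X') (g' : X' ⟶ Y) (hg' : IsBir g'.left) :
    ∃! h : X' ⟶ X, h ≫ g = g' := by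
  haveI : IsNoetherianRing (CommRingCat.of R) := inferInstanceAs (IsNoetherianRing R)
  have reg : ∀ {T : Over (Spec (CommRingCat.of R))}, ArSurf.IsArithSurface R T →
      IsProper T.hom ∧ IsRegSurf T.left := fun {T} hT => by
    haveI : IsProper T.hom := Groth.L05.RelMinExists.isProper_of_projective hT.2.2.2.2
    haveI : IsLocallyNoetherian T.left := LocallyOfFiniteType.isLocallyNoetherian T.hom
    haveI : CompactSpace T.left := QuasiCompact.compactSpace_of_compactSpace T.hom
    exact ⟨inferInstance, ⟨hT.2.1, ⟨⟩, hT.1, hT.2.2.1.le⟩⟩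
  obtain ⟨hpX, hS⟩ := reg hX
  obtain ⟨hpX', hS'⟩ := reg hX'
  haveI := hpX; haveI := hpX'
  haveI : IsProper (g.left ≫ Y.hom) := by rw [Over.w g]; infer_instance
  haveI : IsProper g.left := IsProper.of_comp g.left Y.hom
  haveI : IsProper (g'.left ≫ Y.hom) := by rw [Over.w g']; infer_instance
  haveI : IsProper g'.left := IsProper.of_comp g'.left Y.hom
  haveI := hS'.integral
  obtain ⟨V, hV, hgV⟩ := id hg
  obtain ⟨V', hV', hgV'⟩ := id hg'
  haveI := hgV; haveI := hgV'
  obtain ⟨e', -⟩ := Groth.L05.PtSeq.ffMap_bijective g'.left V' hV'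
  let U : X'.left.Opens := g'.left ⁻¹ᵁ V
  have hU : (U : Set X'.left).Nonempty :=
    ⟨genericPoint X'.left, show g'.left (genericPoint X'.left) ∈ V by rw [e']; exact genericPoint_mem hV⟩
  obtain ⟨Z, s, h, hs, hh, -⟩ := Groth.L05.PtSeq.exists_resolve hS' g'.left g.left U hU
    ((g'.left ∣_ V) ≫ inv (g.left ∣_ V) ≫ (g.left ⁻¹ᵁ V).ι) (by
      rw [Category.assoc, Category.assoc, ← morphismRestrict_ι, IsIso.inv_hom_id_assoc, morphismRestrict_ι])
  obtain ⟨b, hb⟩ := exists_descend_over hdimY hneg g.left hS hg hexc hs g'.left hS' hg' h hh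
  refine ⟨Over.homMk b (by rw [← Over.w g, ← Category.assoc, hb, Over.w g']), Over.OverMorphism.ext hb,
    fun h' hh' => Over.OverMorphism.ext ?_⟩
  show h'.left = b
  have hl : h'.left ≫ g.left = g'.left := congrArg CommaMorphism.left hh'
  haveI : Nonempty ((U : Scheme.{u})) := ⟨⟨_, hU.some_mem⟩⟩
  haveI : IsDominant U.ι := ⟨U.ι.isOpenEmbedding.isOpen_range.dense (Set.range_nonempty _)⟩
  refine ext_of_isDominant_of_isSeparated g.left (by rw [hl, hb]) U.ι ?_
  refine Groth.L05.PtSeq.eq_of_mono_over g.left V (by rw [Category.assoc, Category.assoc, hl, hb]) fun c => ?_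
  rw [← Scheme.Hom.comp_apply, Category.assoc, hl, Scheme.Hom.comp_apply]
  exact c.2

end Groth.L05.MinDesing
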