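import Groth.Agent.L05.MinDesing.Main
import Groth.Agent.S7907

/-!
# Negative definiteness for a pair of contracted curves
-/

set_option autoImplicit false
set_option linter.style.haveILetI false
set_option backward.isDefEq.respectTransparency false

universe u

open CategoryTheory CategoryTheory.Limits AlgebraicGeometry TopologicalSpace

noncomputable section

namespace Groth.L05.MinDesing

variable {R : Type u} [CommRing R] [IsDomain R] [IsDiscreteValuationRing R]
  {Y : Over (Spec (CommRingCat.of R))} [IsIntegral Y.left] [Flat Y.hom]

theorem pairNeg (hnor : ∀ y : Y.left, IsIntegrallyClosed (Y.left.presheaf.stalk y))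
    (hdim : topologicalKrullDim Y.left = 2) (hproj : Neron.IsProjectiveOver R Y) : PairNeg Y :=
  fun X hX f hbir y hy Γ hΓ hΓy L hL => Groth.Agent.S7907.result R X hX Y hnor hdim hproj f hbir y hy Γ hΓ hΓy L hL
    (fun _ => 1) fun h => one_ne_zero (congrFun h 0)

end Groth.L05.MinDesing
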